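import Cfsg.Agent.H865.ListGroup
import Cfsg.Agent.H839.Rad.Base
import Cfsg.Agent.H959.Rad3.Iface
import Cfsg.Agent.H498.SporOut
import Cfsg.Agent.NotCT.Orders
import Cfsg.Agent.H180.KMathieu

/-!
# Elements of order three of the Mathieu groups (helper322, for S3854, S3832, S4336)

For every element `P ≠ 1` of a Sylow 3-subgroup (an explicit list) there is an involution `T` with `P T` of order 11.
-/

set_option autoImplicit false

namespace Cfsg.Agent.H322.RadM

open Cfsg Cfsg.Agent Cfsg.Agent.SporadicA.GolayBase Cfsg.Agent.SporadicA.GolayPerm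
open Cfsg.Agent.SporadicStructure.M24El Cfsg.Agent.H865.ListGroup Cfsg.Agent.H959.Rad3
open Subgroup
open scoped Pointwise

/-- eleventh power -/
def p11 (P : ℕ) : ℕ :=
  pcomp (pcomp (pcomp (pcomp (pcomp P P) (pcomp P P)) (pcomp (pcomp P P) (pcomp P P))) (pcomp P P)) P

theorem el_p11 {P : ℕ} (h : ok P = true) : el (p11 P) = el P ^ 11 ∧ ok (p11 P) = true := by
  have h2 := ok_pcomp h h
  have h4 := ok_pcomp h2 h2
  have h8 := ok_pcomp h4 h4
  have h10 := ok_pcomp h8 h2
  refine ⟨?_, ok_pcomp h10 h⟩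
  unfold p11
  rw [el_pcomp h10 h, el_pcomp h8 h2, el_pcomp h4 h4, el_pcomp h2 h2, el_pcomp h h]
  simp only [pow_succ, pow_zero, one_mul, mul_assoc]

/-- the check -/
def chk (test : ℕ → Bool) (L TL : List ℕ) : Bool :=
  (L.all fun P => test P) && (TL.all fun T => (ok T && test T) && Nat.beq (pcomp T T) idP) &&
    (L.all fun P => Nat.beq P idP || TL.any fun T =>
      (norm (pcomp P T) && !(Nat.beq (pcomp P T) idP)) && Nat.beq (p11 (pcomp P T)) idP)

theorem irowInn_of_list (X : Subgroup M24) (test : ℕ → Bool)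
    (htest : ∀ P, ok P = true → test P = true → el P ∈ X) (L TL : List ℕ) (hL : chkGroup L = true) (hnd : L.Nodup)
    (hchk : chk test L TL = true) {k : ℕ} (hk : (Nat.card X).factorization 3 = k) (hcard : L.length = 3 ^ k)
    (hZ : center X = ⊥) : IRowInn X := by
  have h3 : Fact (Nat.Prime 3) := ⟨by norm_num⟩
  unfold chk at hchk
  simp only [Bool.and_eq_true, List.all_eq_true, List.any_eq_true, Bool.or_eq_true, Nat.beq_eq,
    Bool.not_eq_true'] at hchk
  obtain ⟨⟨hc1, hc2⟩, hc3⟩ := hchk
  have hok : ∀ P ∈ L, ok P = true := fun P hP => ((chkGroup_spec hL).1 P hP).1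
  have hle : listGroup L hL ≤ X := by
    rintro _ ⟨P, hP, rfl⟩
    exact htest P (hok P hP) (hc1 P hP)
  let S0 : Subgroup X := (listGroup L hL).subgroupOf X
  have hS0 : Nat.card S0 = 3 ^ (Nat.card X).factorization 3 := by
    rw [Nat.card_congr (subgroupOfEquivOfLe hle).toEquiv, card_listGroup hL hnd, hcard, hk]
  let S : Sylow 3 X := Sylow.ofCard S0 hS0
  intro a ha _ hI
  have hpg : IsPGroup 3 (zpowers a) := IsPGroup.of_card (n := 1) (by rw [Nat.card_zpowers, ha, pow_one])
  obtain ⟨Q, hQ⟩ := hpg.exists_le_sylow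
  obtain ⟨c, hc⟩ := MulAction.exists_smul_eq X Q S
  have hmem : c * a * c⁻¹ ∈ (S : Subgroup X) := by
    rw [← hc]
    exact ⟨a, hQ (mem_zpowers a), rfl⟩
  obtain ⟨P, hP, hP'⟩ : ((c * a * c⁻¹ : X) : M24) ∈ listGroup L hL := mem_subgroupOf.1 hmem
  have hPid : P ≠ idP := by
    rintro rfl
    rw [el_idP] at hP'
    have h1 : c * a * c⁻¹ = 1 := Subtype.ext hP'
    rw [conj_eq_one_iff] at h1
    rw [h1, orderOf_one] at ha
    norm_num at ha
  obtain ⟨T, hT, ⟨hTn, hT1⟩, hT2⟩ := (hc3 P hP).resolve_left hPid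
  obtain ⟨⟨hTok, hTt⟩, hTT⟩ := hc2 T hT
  have hokP := hok P hP
  have hTX := htest T hTok hTt
  set y : X := ⟨el T, hTX⟩ with hy
  have hyy : y * y = 1 := by
    apply Subtype.ext
    change el T * el T = 1
    rw [← el_pcomp hTok hTok, hTT, el_idP]
  have hsol := (hI.conj c).solvable hZ hyy
  refine not_solvable_of_coprime (k := 1) (n := 11) ?_ ?_ ?_ (by norm_num) ?_ hsol
  · rw [conj_pow, ← ha, pow_orderOf_eq_one, mul_one, mul_inv_cancel]
  · rw [pow_one, pow_two, hyy]
  · apply Subtype.ext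
    change (((c * a * c⁻¹ : X) : M24) * el T) ^ 11 = 1
    rw [hP', ← el_pcomp hokP hTok, ← (el_p11 (ok_pcomp hokP hTok)).1, hT2, el_idP]
  · intro h
    have h1 : ((c * a * c⁻¹ : X) : M24) * el T = 1 := congrArg Subtype.val h
    rw [hP', ← el_pcomp hokP hTok] at h1
    have h2 : pcomp P T = idP := eq_of_el_eq (ok_pcomp hokP hTok) ok_idP hTn (by decide +kernel)
      (by rw [h1, el_idP])
    rw [h2] at hT1
    exact absurd hT1 (by decide +kernel)

theorem center_bot {K : Type*} [Group K] [Finite K] [IsSimpleGroup K] (hp : ¬ (Nat.card K).Prime) :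
    center K = ⊥ := by
  rcases (inferInstance : (center K).Normal).eq_bot_or_eq_top with h | h
  · exact h
  · exfalso
    have hc : ∀ a b : K, a * b = b * a := fun a b => by
      have h1 : b ∈ center K := by rw [h]; exact mem_top b
      exact mem_center_iff.1 h1 a
    let _ : CommGroup K := { (inferInstance : Group K) with mul_comm := hc }
    exact hp IsSimpleGroup.prime_card

theorem inner_of_index {K : Type*} [Group K] [Finite K] (h : (MulAut.conj : K →* MulAut K).range.index ≤ 2)
    (x : MulAut K) (hx : orderOf x = 3) : ∃ a : K, x = MulAut.conj a := by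
  have hn : (MulAut.conj : K →* MulAut K).range.Normal := by infer_instance
  have h0 : (MulAut.conj : K →* MulAut K).range.index ≠ 0 := index_ne_zero_of_finite
  have h1 := pow_index_mem (MulAut.conj : K →* MulAut K).range x
  have h3 : x ^ 3 = 1 := by rw [← hx, pow_orderOf_eq_one]
  have h4 : x ∈ (MulAut.conj : K →* MulAut K).range := by
    have : (MulAut.conj : K →* MulAut K).range.index = 1 ∨ (MulAut.conj : K →* MulAut K).range.index = 2 := by omega
    rcases this with h5 | h5
    · rwa [h5, pow_one] at h1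
    · rw [h5] at h1
      have h6 := (MulAut.conj : K →* MulAut K).range.pow_mem h1 2
      rw [← pow_mul, show 2 * 2 = 3 + 1 by norm_num, pow_add, h3, one_mul, pow_one] at h6
      exact h6
  obtain ⟨a, ha⟩ := h4
  exact ⟨a, ha.symm⟩

theorem fact3 {n m k : ℕ} (h : n = 3 ^ k * m) (hm : ¬ 3 ∣ m) : n.factorization 3 = k := by
  have hm0 : m ≠ 0 := by
    rintro rfl
    exact hm (dvd_zero 3)
  rw [h, Nat.factorization_mul (pow_ne_zero _ (by norm_num)) hm0, Nat.Prime.factorization_pow Nat.prime_three,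
    Finsupp.add_apply, Finsupp.single_eq_same, Nat.factorization_eq_zero_of_not_dvd hm, add_zero]

/-- the row of a subgroup of `M24` -/
theorem irow_of_list {K : Type*} [Group K] [Finite K] [IsSimpleGroup K] (Y : Subgroup (Equiv.Perm GolayPt))
    (hY : Y ≤ M24) (e : K ≃* Y) (hS : IsSporadicGroup K) {n m k : ℕ} (hn : Nat.card K = n) (hnm : n = 3 ^ k * m)
    (hm : ¬ 3 ∣ m) (hp : ¬ n.Prime) (test : ℕ → Bool)
    (htest : ∀ P, ok P = true → test P = true → ((el P : M24) : Equiv.Perm GolayPt) ∈ Y) (L TL : List ℕ)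
    (hL : chkGroup L = true) (hnd : L.Nodup) (hchk : chk test L TL = true) (hcard : L.length = 3 ^ k) : IRow K := by
  let X : Subgroup M24 := Y.subgroupOf M24
  let f : K ≃* X := e.trans (subgroupOfEquivOfLe hY).symm
  have hfin : Finite X := Finite.of_equiv K f.toEquiv
  have hX : Nat.card X = n := by rw [← Nat.card_congr f.toEquiv, hn]
  have hsim : IsSimpleGroup X := f.symm.isSimpleGroup
  have hZ : center X = ⊥ := center_bot (by rw [hX]; exact hp)
  refine IRow.congr f (IRowInn.irow hZ (fun x hx => ?_) ?_)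
  · refine inner_of_index ?_ x hx
    rw [← H498.SporOut.index_congr f]
    exact H498.SporOut.index_le_two hS
  · exact irowInn_of_list X test (fun P h1 h2 => mem_subgroupOf.2 (htest P h1 h2)) L TL hL hnd hchk
      (hX ▸ fact3 hnm hm) hcard hZ

end Cfsg.Agent.H322.RadM
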